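import Groth.Agent.CMRegLib.Res
import Groth.Agent.CMRegLib.Mult
import Groth.Agent.CMRegLib.Bounded
import Groth.Agent.ProjTwist.Zero
import Groth.Agent.ProjSerreLib.Twists
import Groth.Agent.VBLib.Twist
import Groth.Agent.VBLib.CurveDual
import Groth.Prelude.Def_KLin

/-!
# Morphisms from twists of the structure sheaf of projective space
-/

set_option autoImplicit false
set_option backward.isDefEq.respectTransparency false
set_option linter.style.haveILetI false
set_option maxHeartbeats 1000000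

universe u

open CategoryTheory CategoryTheory.Limits AlgebraicGeometry TopologicalSpace Opposite
open Groth.Agent.CMRegLib

noncomputable section

namespace Groth.Agent.GaetaLib

variable {k : Type u} [Field k] {n : ℕ}

local notation "PS" => CohB1.ProjSpace n k
local notation "O(" d ")" => Twist.twistProjSpace n k d

/-- Cohomology of a twist of a twist. -/
theorem HT_twist' (hn : 0 < n) (c d : ℤ) {i : ℕ}
    (h : (i ≠ 0 ∧ (-((n : ℤ) + 1) < c + d ∨ i ≠ n)) ∨ (i = 0 ∧ c + d < 0)) : HT (O(c)) d i :=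
  haveI := ProjSerreLib.subsingleton_twist (k := k) hn (c + d) h
  @ProjCoh.subsingleton_of_iso _ _ _
    (ProjTwistLib.mulIso (𝒜 := CohB1.polyGrading n k) (rfl : c + d = c + d) (hasUnit c)).symm i
    (ProjSerreLib.subsingleton_twist (k := k) hn (c + d) h)

theorem HT_structure' (hn : 0 < n) (d : ℤ) {i : ℕ}
    (h : (i ≠ 0 ∧ (-((n : ℤ) + 1) < d ∨ i ≠ n)) ∨ (i = 0 ∧ d < 0)) :
    HT (Coh.structureModule PS) d i :=
  HT.iso (@asIso _ _ _ _ (ProjCoh.unitToTwist (CohB1.polyGrading n k)) ProjCoh.isIso_unitToTwist).symm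
    (HT_twist' hn 0 d (by simpa using h))

theorem HT_zero_iff (M : (PS).Modules) (i : ℕ) : HT M 0 i ↔ Subsingleton (Coh.HH PS M i) :=
  ⟨fun h => @ProjCoh.subsingleton_of_iso _ _ _ (zeroTwistIso M) i h,
    fun h => @ProjCoh.subsingleton_of_iso _ _ _ (zeroTwistIso M).symm i h⟩

theorem subsingleton_hom_iff {X : Scheme.{u}} (M : X.Modules) :
    Subsingleton (Coh.structureModule X ⟶ M) ↔ Subsingleton (Coh.HH X M 0) := by
  constructor
  · intro h
    refine ⟨fun a b => (CurveLib.secOf M).injective ?_⟩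
    rw [← AmpleLib.sec_secHom (CurveLib.secOf M a), ← AmpleLib.sec_secHom (CurveLib.secOf M b)]
    exact congrArg AmpleLib.sec (h.elim _ _)
  · intro h
    refine ⟨fun a b => ?_⟩
    rw [← AmpleLib.secHom_sec a, ← AmpleLib.secHom_sec b,
      (CurveLib.secOf M).symm.injective (h.elim ((CurveLib.secOf M).symm (AmpleLib.sec a))
        ((CurveLib.secOf M).symm (AmpleLib.sec b)))]

theorem surjective_app_top {X : Scheme.{u}} {A B : X.Modules} (π : A ⟶ B)
    (h : ∀ σ : Coh.structureModule X ⟶ B, ∃ l : Coh.structureModule X ⟶ A, l ≫ π = σ) :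
    Function.Surjective (π.app ⊤) := fun s => by
  obtain ⟨l, hl⟩ := h (DCohLib.secHom B s)
  refine ⟨AmpleLib.sec l, ?_⟩
  rw [← AmpleLib.sec_secHom s, ← hl]
  rfl

theorem exists_lift {X : Scheme.{u}} {A B : X.Modules} (π : A ⟶ B) (h : Function.Surjective (π.app ⊤))
    (σ : Coh.structureModule X ⟶ B) : ∃ l : Coh.structureModule X ⟶ A, l ≫ π = σ := by
  obtain ⟨a, ha⟩ := h (AmpleLib.sec σ)
  refine ⟨DCohLib.secHom A a, ?_⟩
  rw [← AmpleLib.secHom_sec σ, ← AmpleLib.secHom_sec (DCohLib.secHom A a ≫ π)]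
  refine congrArg (DCohLib.secHom B) ?_
  exact (congrArg (π.app ⊤) (AmpleLib.sec_secHom a)).trans ha

/-- Endomorphisms of the structure sheaf of projective space are constants. -/
theorem end_structure (φ : Coh.structureModule PS ⟶ Coh.structureModule PS) :
    ∃ c : k, φ = c • 𝟙 (Coh.structureModule PS) := by
  obtain ⟨c, hc⟩ := (ProjTwist.projφ_bijective n k).2 (show Γ(PS, ⊤) from AmpleLib.sec φ)
  refine ⟨c, ?_⟩
  rw [← AmpleLib.secHom_sec φ, ← AmpleLib.secHom_sec (c • 𝟙 (Coh.structureModule PS))]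
  refine congrArg (DCohLib.secHom _) ?_
  refine Eq.trans ?_ (KLin.smul_app_apply c (𝟙 (Coh.structureModule PS)) ⊤ (1 : Γ(PS, ⊤))).symm
  refine Eq.trans ?_ (show _ = (PS).presheaf.map (homOfLE (le_top : (⊤ : (PS).Opens) ≤ ⊤)).op
    (ProjCoh.projφ (CohB1.polyGrading n k) c) * (1 : Γ(PS, ⊤)) from rfl)
  rw [mul_one]
  exact hc.symm.trans (ConcreteCategory.congr_hom ((PS).presheaf.map_id _) _).symm

/-- Twisting by `O(1)`. -/
abbrev twOne (k : Type u) [Field k] (n : ℕ) :
    (CohB1.ProjSpace n k).Modules ⥤ (CohB1.ProjSpace n k).Modules :=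
  CurveLib.tensR (Twist.twistProjSpace n k 1)

/-- `O(-1) ⊗ O(1) ≅ O`. -/
def unitIso (k : Type u) [Field k] (n : ℕ) :
    (twOne k n).obj (Twist.twistProjSpace n k (-1)) ≅ Coh.structureModule (CohB1.ProjSpace n k) :=
  ProjTwistLib.mulIso (𝒜 := CohB1.polyGrading n k) (show (-1 : ℤ) + 1 = 0 by norm_num) (hasUnit (-1)) ≪≫
    (@asIso _ _ _ _ (ProjCoh.unitToTwist (CohB1.polyGrading n k)) ProjCoh.isIso_unitToTwist).symm

/-- `O(1) ⊗ O(-1) ≅ O`. -/
def unitIso' (k : Type u) [Field k] (n : ℕ) :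
    CohB1.tensorMod (Twist.twistProjSpace n k 1) (Twist.twistProjSpace n k (-1)) ≅
      Coh.structureModule (CohB1.ProjSpace n k) :=
  ProjTwistLib.mulIso (𝒜 := CohB1.polyGrading n k) (show (1 : ℤ) + -1 = 0 by norm_num) (hasUnit 1) ≪≫
    (@asIso _ _ _ _ (ProjCoh.unitToTwist (CohB1.polyGrading n k)) ProjCoh.isIso_unitToTwist).symm

theorem isEquivalence_twOne : (twOne k n).IsEquivalence :=
  VBLib.isEquivalence_tensR (unitIso' k n)

attribute [instance] isEquivalence_twOne

/-- A morphism from `O(-1)` as a section of the twist. -/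
def homTw {M : (PS).Modules} (φ : O(-1) ⟶ M) : Coh.structureModule PS ⟶ (twOne k n).obj M :=
  (unitIso k n).inv ≫ (twOne k n).map φ

theorem homTw_bijective (M : (PS).Modules) : Function.Bijective (homTw (k := k) (n := n) (M := M)) := by
  refine ⟨fun a b h => (twOne k n).map_injective ((cancel_epi (unitIso k n).inv).1 h), fun τ => ?_⟩
  refine ⟨(twOne k n).preimage ((unitIso k n).hom ≫ τ), ?_⟩
  rw [homTw, (twOne k n).map_preimage, Iso.inv_hom_id_assoc]

theorem homTw_comp {M N : (PS).Modules} (φ : O(-1) ⟶ M) (g : M ⟶ N) :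
    homTw (φ ≫ g) = homTw φ ≫ (twOne k n).map g := by
  rw [homTw, homTw, Functor.map_comp, Category.assoc]

theorem subsingleton_hom_negOne {M : (PS).Modules} (h : HT M 1 0) : Subsingleton (O(-1) ⟶ M) :=
  haveI : Subsingleton (Coh.structureModule PS ⟶ (twOne k n).obj M) := (subsingleton_hom_iff _).2 h
  (homTw_bijective (k := k) (n := n) M).1.subsingleton

theorem exists_lift_negOne {A B : (PS).Modules} (π : A ⟶ B)
    (h : ∀ σ : O(-1) ⟶ B, ∃ l : O(-1) ⟶ A, l ≫ π = σ) : Function.Surjective (((twOne k n).map π).app ⊤) := by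
  refine surjective_app_top _ fun τ => ?_
  obtain ⟨σ, rfl⟩ := (homTw_bijective (k := k) (n := n) B).2 τ
  obtain ⟨l, rfl⟩ := h σ
  exact ⟨homTw l, (homTw_comp l π).symm⟩

/-- Endomorphisms of `O(-1)` are constants. -/
theorem end_negOne (φ : O(-1) ⟶ O(-1)) : ∃ c : k, φ = c • 𝟙 (O(-1)) := by
  obtain ⟨c, hc⟩ := end_structure (k := k) (n := n) ((unitIso k n).inv ≫ (twOne k n).map φ ≫ (unitIso k n).hom)
  refine ⟨c, (twOne k n).map_injective ?_⟩
  have h1 : (twOne k n).map φ = c • 𝟙 ((twOne k n).obj (O(-1))) := by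
    have h2 : (twOne k n).map φ = (unitIso k n).hom ≫ (c • 𝟙 (Coh.structureModule PS)) ≫ (unitIso k n).inv := by
      rw [← hc]; simp
    rw [h2, Linear.smul_comp, Linear.comp_smul, Category.id_comp, Iso.hom_inv_id]
  rw [h1, KLin.smul_id, KLin.smul_id, ← cst_eq_smulMod, ← cst_eq_smulMod]
  exact (VBLib.Dual.tensR_map_cst k (O(-1)) (O(1)) c).symm

theorem finite_H0 {F : (PS).Modules} (hF : Coh.IsCoh F) (d : ℤ) :
    Module.Finite k (Coh.HH PS (CohB1.tensorMod F (O(d))) 0) :=
  haveI : IsProper (PS ↘ Spec (CommRingCat.of k)) := CompleteCurve.isProper_toSpec n k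
  EulerIneqLib.finite_HH (isCoh_twistBy hF d) 0

theorem finite_hom {X : Scheme.{u}} [X.Over (Spec (CommRingCat.of k))] (M : X.Modules)
    [Module.Finite k (Coh.HH X M 0)] : Module.Finite k (Coh.structureModule X ⟶ M) := by
  classical
  obtain ⟨d, E, hE⟩ := exists_hom_coords (k := k) M
  refine Module.Finite.of_surjective (Fintype.linearCombination k E) fun g => ?_
  obtain ⟨c, hc⟩ := hE g
  refine ⟨c, ?_⟩
  rw [hc, Fintype.linearCombination_apply]
  refine Finset.sum_congr rfl fun b _ => ?_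
  conv_lhs => rw [← Category.comp_id (E b), ← Linear.comp_smul, KLin.smul_id]

theorem finite_hom_negOne {F : (PS).Modules} (hF : Coh.IsCoh F) : Module.Finite k (O(-1) ⟶ F) := by
  haveI := finite_H0 hF 1
  haveI := @finite_hom k _ PS _ ((twOne k n).obj F) (finite_H0 hF 1)
  let L : (O(-1) ⟶ F) →ₗ[k] (Coh.structureModule PS ⟶ (twOne k n).obj F) :=
    { toFun := homTw
      map_add' := fun a b => by rw [homTw, homTw, homTw, Functor.map_add, Preadditive.comp_add]
      map_smul' := fun r a => by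
        have hr : (twOne k n).map (r • 𝟙 (O(-1))) = r • 𝟙 ((twOne k n).obj (O(-1))) := by
          rw [KLin.smul_id, KLin.smul_id, ← cst_eq_smulMod, ← cst_eq_smulMod]
          exact VBLib.Dual.tensR_map_cst k (O(-1)) (O(1)) r
        rw [RingHom.id_apply, homTw, homTw, show r • a = (r • 𝟙 (O(-1))) ≫ a by
          rw [Linear.smul_comp, Category.id_comp], Functor.map_comp, hr, Linear.smul_comp, Category.id_comp,
          Linear.comp_smul] }
  exact Module.Finite.of_injective L (homTw_bijective (k := k) (n := n) F).1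

/-- A `0`-regular module without sections is zero. -/
theorem isZero_of_regular {L : (PS).Modules} (hL : Coh.IsCoh L) (h : Curv2.IsMRegular k n L 0)
    (h0 : Subsingleton (Coh.HH PS L 0)) : IsZero L := by
  have hgg := CMRegLib.globallyGenerated hL h
  haveI : Epi (0 : (⊥_ (PS).Modules) ⟶ CohB1.tensorMod L (O(0))) :=
    epi_of_surjective_sections _ (fun s => ⟨0, by
      haveI := (subsingleton_hom_iff _).2 ((HT_zero_iff L 0).2 h0)
      rw [map_zero, ← AmpleLib.sec_secHom s, Subsingleton.elim (DCohLib.secHom _ s) 0]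
      rfl⟩) hgg
  exact (IsZero.of_epi_zero (⊥_ (PS).Modules) (CohB1.tensorMod L (O(0)))).of_iso (zeroTwistIso L).symm

end Groth.Agent.GaetaLib
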