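import Groth.Agent.GaetaLib.Basic
import Groth.Agent.QCohLib.Coherent
import Mathlib.CategoryTheory.Linear.Basic
import Mathlib.LinearAlgebra.TensorProduct.Basis

/-!
# Gaeta resolutions on the projective plane
-/

set_option autoImplicit false
set_option backward.isDefEq.respectTransparency false
set_option linter.style.haveILetI false
set_option maxHeartbeats 1000000

universe u

open CategoryTheory CategoryTheory.Limits AlgebraicGeometry TopologicalSpace Opposite
open Groth.Agent.CMRegLib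
open scoped TensorProduct

noncomputable section

namespace Groth.Agent.GaetaLib

variable {k : Type u} [Field k]

local notation "PS" => CohB1.ProjSpace 2 k
local notation "O(" d ")" => Twist.twistProjSpace 2 k d
local notation "O0" => Coh.structureModule (CohB1.ProjSpace 2 k)

theorem sigma_decomp {C : Type*} [Category C] [Preadditive C] {b : ℕ} (E : C)
    [HasCoproduct fun _ : Fin b => E] {Z : C} (φ : Z ⟶ ∐ fun _ : Fin b => E) :
    ∃ ψ : Fin b → (Z ⟶ E), φ = ∑ j, ψ j ≫ Sigma.ι (fun _ : Fin b => E) j := by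
  classical
  let pr : Fin b → ((∐ fun _ : Fin b => E) ⟶ E) := fun i => Sigma.desc fun j => if j = i then 𝟙 E else 0
  have h : (∑ i, pr i ≫ Sigma.ι (fun _ : Fin b => E) i) = 𝟙 _ := by
    refine Sigma.hom_ext _ _ fun j => ?_
    rw [Preadditive.comp_sum, Category.comp_id, Finset.sum_eq_single j]
    · simp [pr]
    · intro i _ hij; simp [pr, Ne.symm hij]
    · simp
  refine ⟨fun i => φ ≫ pr i, ?_⟩
  conv_lhs => rw [← Category.comp_id φ, ← h, Preadditive.comp_sum]
  simp only [Category.assoc]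

theorem hom_sigma_eq_zero {C : Type*} [Category C] [Preadditive C] {b : ℕ} {E : C}
    [HasCoproduct fun _ : Fin b => E] {Z : C} [Subsingleton (Z ⟶ E)] (φ : Z ⟶ ∐ fun _ : Fin b => E) : φ = 0 := by
  obtain ⟨ψ, rfl⟩ := sigma_decomp E φ
  exact Finset.sum_eq_zero fun j _ => by rw [Subsingleton.elim (ψ j) 0, zero_comp]

theorem tensor_coords {M N : Type*} [AddCommGroup M] [Module k M] [AddCommGroup N] [Module k N]
    {ι : Type*} [Fintype ι] (sb : Module.Basis ι k N) {ψ : ι → M} (h : ∑ c, ψ c ⊗ₜ[k] sb c = 0) (c : ι) :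
    ψ c = 0 := by
  classical
  let L : M ⊗[k] N →ₗ[k] M := (TensorProduct.rid k M).toLinearMap ∘ₗ (sb.coord c).lTensor M
  have := congrArg L h
  rw [map_sum, map_zero, Finset.sum_eq_single c] at this
  · simpa [L] using this
  · intro b _ hb; simp [L, hb.symm]
  · simp

theorem isCoh_sum_twist (b : ℕ) (d : ℤ) : Coh.IsCoh (∐ fun _ : Fin b => O(d)) :=
  haveI := isNoetherian_projSpace (k := k) (n := 2)
  isCoh_sigma_fin _ fun _ => CurveLib.isCoh_of_isInvertible (isInvertible_O d)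

theorem isCoh_sum_structure (b : ℕ) : Coh.IsCoh (∐ fun _ : Fin b => O0) :=
  haveI := isNoetherian_projSpace (k := k) (n := 2)
  isCoh_sigma_fin _ fun _ => DevLib.isCoh_structureModule _

theorem HT_source (a b : ℕ) (d : ℤ) {i : ℕ}
    (h : (i ≠ 0 ∧ (-3 < -1 + d ∨ i ≠ 2)) ∨ (i = 0 ∧ d < 0)) :
    HT ((∐ fun _ : Fin a => O(-1)) ⊞ (∐ fun _ : Fin b => O0)) d i :=
  HT.biprod (HT.sigma _ fun _ => HT_twist' two_pos (-1) d (by omega))
    (HT.sigma _ fun _ => HT_structure' two_pos d (by omega))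

theorem subsingleton_structure_negOne : Subsingleton (O0 ⟶ O(-1)) :=
  (subsingleton_hom_iff _).2 (ProjSerreLib.subsingleton_twist (k := k) two_pos (-1) (Or.inr ⟨rfl, by norm_num⟩))

/-- A coherent module with the vanishing of a Gaeta resolution has one. -/
theorem exists_resolution_of_vanishing {F : (PS).Modules} (hF : Coh.IsCoh F)
    (h1 : Subsingleton (Coh.HH PS F 1)) (h2 : Subsingleton (Coh.HH PS F 2))
    (hm2 : HT F (-1) 2) (hp1 : HT F 1 1)
    (hinj : Function.Injective (TensorProduct.lift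
      (CategoryTheory.Linear.comp O(-1) O0 F : (O(-1) ⟶ O0) →ₗ[k] (O0 ⟶ F) →ₗ[k] (O(-1) ⟶ F)))) :
    ∃ (α₁ α₂ α₃ : ℕ) (S : ShortComplex (PS).Modules), S.ShortExact ∧
        Nonempty (S.X₁ ≅ ∐ fun _ : Fin α₁ => O(-2)) ∧
        Nonempty (S.X₂ ≅ (∐ fun _ : Fin α₂ => O(-1)) ⊞ (∐ fun _ : Fin α₃ => O0)) ∧
        Nonempty (S.X₃ ≅ F) := by
  classical
  haveI := isNoetherian_projSpace (k := k) (n := 2)
  haveI : IsProper (PS ↘ Spec (CommRingCat.of k)) := CompleteCurve.isProper_toSpec 2 k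
  haveI := EulerIneqLib.finite_HH (k := k) (X := PS) hF 0
  haveI := finite_hom (k := k) (X := PS) F
  haveI := finite_hom_negOne hF
  haveI : Subsingleton (O0 ⟶ O(-1)) := subsingleton_structure_negOne (k := k)
  let Φ := TensorProduct.lift
      (CategoryTheory.Linear.comp O(-1) O0 F : (O(-1) ⟶ O0) →ₗ[k] (O0 ⟶ F) →ₗ[k] (O(-1) ⟶ F))
  let sb := Module.finBasis k (O0 ⟶ F)
  obtain ⟨W, hW⟩ := Submodule.exists_isCompl (LinearMap.range Φ)
  let tb := Module.finBasis k W
  set a := Module.finrank k W with ha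
  set b := Module.finrank k (O0 ⟶ F) with hb
  let A : (PS).Modules := ∐ fun _ : Fin a => O(-1)
  let B : (PS).Modules := ∐ fun _ : Fin b => O0
  let π : A ⊞ B ⟶ F := biprod.desc (Sigma.desc fun j => (tb j : O(-1) ⟶ F)) (Sigma.desc fun j => sb j)
  have hπA : ∀ j, Sigma.ι (fun _ : Fin a => O(-1)) j ≫ biprod.inl ≫ π = (tb j : O(-1) ⟶ F) := fun j => by
    simp [π]
  have hπB : ∀ j, Sigma.ι (fun _ : Fin b => O0) j ≫ biprod.inr ≫ π = sb j := fun j => by
    simp [π]
  -- sections of the structure sheaf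
  have hsurj0 : ∀ σ : O0 ⟶ F, ∃ l : O0 ⟶ A ⊞ B, l ≫ π = σ := fun σ => by
    refine ⟨∑ j, sb.repr σ j • (Sigma.ι (fun _ : Fin b => O0) j ≫ biprod.inr), ?_⟩
    rw [Preadditive.sum_comp]
    simp only [Linear.smul_comp, Category.assoc, hπB]
    exact sb.sum_repr σ
  have hinj0 : ∀ φ : O0 ⟶ A ⊞ B, φ ≫ π = 0 → φ = 0 := fun φ hφ => by
    have hfst : φ ≫ biprod.fst = 0 := hom_sigma_eq_zero _
    obtain ⟨ψ, hψ⟩ := sigma_decomp O0 (φ ≫ biprod.snd)
    choose c hc using fun j => end_structure (ψ j)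
    have e : φ = ∑ j, c j • (Sigma.ι (fun _ : Fin b => O0) j ≫ biprod.inr) := by
      conv_lhs => rw [← Category.comp_id φ, ← biprod.total, Preadditive.comp_add, reassoc_of% hfst, zero_comp,
        zero_add, ← Category.assoc, hψ, Preadditive.sum_comp]
      refine Finset.sum_congr rfl fun j _ => ?_
      rw [hc j]; simp; rfl
    have h0 : ∑ j, c j • sb j = 0 := by
      rw [← hφ, e, Preadditive.sum_comp]
      simp only [Linear.smul_comp, Category.assoc, hπB]
    have := Fintype.linearIndependent_iff.1 sb.linearIndependent c h0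
    rw [e]
    exact Finset.sum_eq_zero fun j _ => by rw [this j, zero_smul]
  -- sections of the twist
  have hsurj1 : ∀ σ : O(-1) ⟶ F, ∃ l : O(-1) ⟶ A ⊞ B, l ≫ π = σ := fun σ => by
    obtain ⟨r, hr, w, hw, rfl⟩ := Submodule.mem_sup.1
      (show σ ∈ LinearMap.range Φ ⊔ W by rw [hW.sup_eq_top]; trivial)
    obtain ⟨z, rfl⟩ := hr
    have h1 : ∃ l : O(-1) ⟶ A ⊞ B, l ≫ π = Φ z := by
      induction z using TensorProduct.induction_on with
      | zero => exact ⟨0, by rw [zero_comp, map_zero]⟩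
      | tmul ψ s =>
        obtain ⟨l, hl⟩ := hsurj0 s
        exact ⟨ψ ≫ l, by rw [Category.assoc, hl]; rfl⟩
      | add x y hx hy =>
        obtain ⟨lx, hlx⟩ := hx
        obtain ⟨ly, hly⟩ := hy
        exact ⟨lx + ly, by rw [Preadditive.add_comp, hlx, hly, map_add]⟩
    obtain ⟨l, hl⟩ := h1
    refine ⟨l + ∑ j, tb.repr ⟨w, hw⟩ j • (Sigma.ι (fun _ : Fin a => O(-1)) j ≫ biprod.inl), ?_⟩
    rw [Preadditive.add_comp, hl, Preadditive.sum_comp]
    simp only [Linear.smul_comp, Category.assoc, hπA]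
    refine congrArg (Φ z + ·) ?_
    exact (map_sum W.subtype (fun j => tb.repr ⟨w, hw⟩ j • tb j) _).symm.trans (congrArg W.subtype (tb.sum_repr ⟨w, hw⟩))
  have hinj1 : ∀ φ : O(-1) ⟶ A ⊞ B, φ ≫ π = 0 → φ = 0 := fun φ hφ => by
    obtain ⟨θ, hθ⟩ := sigma_decomp O(-1) (φ ≫ biprod.fst)
    choose c hc using fun j => end_negOne (θ j)
    obtain ⟨ψ, hψ⟩ := sigma_decomp O0 (φ ≫ biprod.snd)
    have e : φ = (∑ j, c j • (Sigma.ι (fun _ : Fin a => O(-1)) j ≫ biprod.inl)) +
        ∑ j, ψ j ≫ Sigma.ι (fun _ : Fin b => O0) j ≫ biprod.inr := by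
      conv_lhs => rw [← Category.comp_id φ, ← biprod.total, Preadditive.comp_add, ← Category.assoc, hθ,
        ← Category.assoc, hψ, Preadditive.sum_comp, Preadditive.sum_comp]
      refine congrArg₂ (· + ·) (Finset.sum_congr rfl fun j _ => ?_) (Finset.sum_congr rfl fun j _ => ?_)
      · rw [hc j]; simp; rfl
      · simp; rfl
    have h0 : (∑ j, c j • (tb j : O(-1) ⟶ F)) + Φ (∑ j, ψ j ⊗ₜ[k] sb j) = 0 := by
      rw [← hφ, e, Preadditive.add_comp, Preadditive.sum_comp, Preadditive.sum_comp, map_sum]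
      simp only [Linear.smul_comp, Category.assoc]
      exact congrArg₂ (· + ·) (Finset.sum_congr rfl fun j _ => congrArg (c j • ·) (hπA j).symm)
        (Finset.sum_congr rfl fun j _ => congrArg (ψ j ≫ ·) (hπB j).symm)
    have hw : (∑ j, c j • (tb j : O(-1) ⟶ F)) ∈ W := Submodule.sum_mem _ fun j _ => W.smul_mem _ (tb j).2
    have hr : (∑ j, c j • (tb j : O(-1) ⟶ F)) ∈ LinearMap.range Φ :=
      ⟨-(∑ j, ψ j ⊗ₜ[k] sb j), by rw [map_neg]; exact (eq_neg_of_add_eq_zero_left h0).symm⟩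
    have hz : (∑ j, c j • (tb j : O(-1) ⟶ F)) = 0 := Submodule.disjoint_def.1 hW.disjoint _ hr hw
    rw [hz, zero_add] at h0
    have hc0 := Fintype.linearIndependent_iff.1 tb.linearIndependent c
      (Subtype.ext (by simpa using hz))
    have hψ0 := tensor_coords sb (hinj (h0.trans (map_zero Φ).symm))
    rw [e]
    simp [hc0, hψ0]
  -- the source
  have hAB : Coh.IsCoh (A ⊞ B) :=
    DevLib.isCoh_biprod (isCoh_sum_twist a (-1)) (isCoh_sum_structure b)
  have hregF : Curv2.IsMRegular k 2 F 1 := fun i hi hi2 => by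
    obtain rfl | rfl : i = 1 ∨ i = 2 := by omega
    · simpa using (HT_zero_iff F 1).2 h1
    · simpa using hm2
  haveI : Epi ((twOne k 2).map π) :=
    epi_of_surjective_sections _ (exists_lift_negOne π hsurj1) (globallyGenerated hF hregF)
  haveI : Epi π := (twOne k 2).epi_of_epi_map inferInstance
  have hS := shortExact_ker π
  let K := kernel π
  have hK : Coh.IsCoh K := (QCohLib.isCoh_kernel_cokernel π hAB hF).1
  have hK0 : HT K 0 0 := (HT_zero_iff K 0).2 ((subsingleton_hom_iff K).1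
    (subsingleton_of_forall_eq 0 fun φ => (cancel_mono (kernel.ι π)).1 (by
      rw [zero_comp]; exact hinj0 _ (by rw [Category.assoc, kernel.condition, comp_zero]))))
  have hK01 : HT K 0 1 := (HT_zero_iff K 1).2 (subsingleton_H1_kernel π (surjective_app_top π hsurj0)
    ((HT_zero_iff _ 1).1 (HT_source a b 0 (Or.inl ⟨one_ne_zero, Or.inl (by norm_num)⟩))))
  have hK02 : HT K 0 2 :=
    HT.left hS (HT_source a b 0 (Or.inl ⟨by norm_num, Or.inl (by norm_num)⟩)) ((HT_zero_iff F 1).2 h1)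
  have hK12 : HT K 1 2 :=
    HT.left hS (HT_source a b 1 (Or.inl ⟨by norm_num, Or.inl (by norm_num)⟩)) hp1
  have hK10 : HT K 1 0 := (subsingleton_hom_iff _).1 (subsingleton_of_forall_eq 0 fun τ => by
    obtain ⟨φ, rfl⟩ := (homTw_bijective (k := k) (n := 2) K).2 τ
    have : φ = 0 := (cancel_mono (kernel.ι π)).1 (by
      rw [zero_comp]; exact hinj1 _ (by rw [Category.assoc, kernel.condition, comp_zero]))
    rw [this, homTw, Functor.map_zero, comp_zero])
  have hK11 : HT K 1 1 :=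
    @ProjCoh.subsingleton_of_iso _ _ _ (PreservesKernel.iso (twOne k 2) π).symm 1
      (subsingleton_H1_kernel ((twOne k 2).map π) (exists_lift_negOne π hsurj1)
        (HT_source a b 1 (Or.inl ⟨one_ne_zero, Or.inl (by norm_num)⟩)))
  -- the kernel
  let K' := CohB1.tensorMod K (O(2))
  have hK' : Coh.IsCoh K' := isCoh_twistBy hK 2
  have hregK : Curv2.IsMRegular k 2 K' 0 := fun i hi hi2 => by
    obtain rfl | rfl : i = 1 ∨ i = 2 := by omega
    · exact HT.twist (show (2 : ℤ) + (0 - ((1 : ℕ) : ℤ)) = 1 by norm_num) hK11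
    · exact HT.twist (show (2 : ℤ) + (0 - ((2 : ℕ) : ℤ)) = 0 by norm_num) hK02
  have hggK : Curv2.IsGloballyGenerated K' :=
    AmpleLib.isGloballyGenerated_of_iso (zeroTwistIso K') (globallyGenerated hK' hregK)
  haveI := EulerIneqLib.finite_HH (k := k) (X := PS) hK' 0
  haveI := finite_hom (k := k) (X := PS) K'
  let kb := Module.finBasis k (O0 ⟶ K')
  let q : (∐ fun _ : Fin (Module.finrank k (O0 ⟶ K')) => O0) ⟶ K' := Sigma.desc fun j => kb j
  have hqs : Function.Surjective (q.app ⊤) := surjective_app_top q fun σ => by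
    refine ⟨∑ j, kb.repr σ j • Sigma.ι (fun _ : Fin (Module.finrank k (O0 ⟶ K')) => O0) j, ?_⟩
    rw [Preadditive.sum_comp]
    simp only [Linear.smul_comp, q, Sigma.ι_desc]
    exact kb.sum_repr σ
  haveI : Epi q := epi_of_surjective_sections q hqs hggK
  have hqS := shortExact_ker q
  let L := kernel q
  have hL : Coh.IsCoh L := (QCohLib.isCoh_kernel_cokernel q (isCoh_sum_structure _) hK').1
  have hL0 : Subsingleton (Coh.HH PS L 0) := (subsingleton_hom_iff L).1
    (subsingleton_of_forall_eq 0 fun φ => (cancel_mono (kernel.ι q)).1 (by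
      obtain ⟨ψ, hψ⟩ := sigma_decomp O0 (φ ≫ kernel.ι q)
      choose c hc using fun j => end_structure (ψ j)
      have h0 : ∑ j, c j • kb j = 0 := by
        have h : (φ ≫ kernel.ι q) ≫ q = 0 := by rw [Category.assoc, kernel.condition, comp_zero]
        rw [← h, hψ, Preadditive.sum_comp]
        refine Finset.sum_congr rfl fun j _ => ?_
        rw [hc j]; simp [q]
      have := Fintype.linearIndependent_iff.1 kb.linearIndependent c h0
      rw [zero_comp, hψ]
      exact Finset.sum_eq_zero fun j _ => by rw [hc j, this j]; simp))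
  have hregL : Curv2.IsMRegular k 2 L 0 := fun i hi hi2 => by
    obtain rfl | rfl : i = 1 ∨ i = 2 := by omega
    · exact HT.left hqS (HT.sigma _ fun _ => HT_structure' two_pos _ (Or.inl ⟨one_ne_zero, Or.inl (by norm_num)⟩))
        (HT.twist (show (2 : ℤ) + (0 - ((1 : ℕ) : ℤ)) = 1 by norm_num) hK10)
    · exact HT.left hqS (HT.sigma _ fun _ => HT_structure' two_pos _ (Or.inl ⟨by norm_num, Or.inl (by norm_num)⟩))
        (HT.twist (show (2 : ℤ) + (0 - ((2 : ℕ) : ℤ)) = 0 by norm_num) hK01)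
  haveI : Mono q := Preadditive.mono_of_kernel_zero ((isZero_of_regular hL hregL hL0).eq_of_src _ _)
  haveI : IsIso q := isIso_of_mono_of_epi q
  let eK : K ≅ ∐ fun _ : Fin (Module.finrank k (O0 ⟶ K')) => O(-2) :=
    (zeroTwistIso K).symm ≪≫ (asIso (mulMap K (show (2 : ℤ) + -2 = 0 by norm_num))).symm ≪≫
      AmpleLib.tIso (asIso q).symm (Iso.refl (O(-2))) ≪≫ (sigmaUnitIso (O(-2)) _).symm
  exact ⟨_, a, b, _, hS, ⟨eK⟩, ⟨Iso.refl _⟩, ⟨Iso.refl _⟩⟩

/-- A Gaeta resolution forces vanishing and injectivity of multiplication. -/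
theorem vanishing_of_resolution {F : (PS).Modules} {α₁ α₂ α₃ : ℕ} {S : ShortComplex (PS).Modules} (hS : S.ShortExact)
    (e₁ : S.X₁ ≅ ∐ fun _ : Fin α₁ => O(-2))
    (e₂ : S.X₂ ≅ (∐ fun _ : Fin α₂ => O(-1)) ⊞ (∐ fun _ : Fin α₃ => O0)) (e₃ : S.X₃ ≅ F) :
    HT F (-1) 0 ∧ HT F (-1) 2 ∧ Subsingleton (Coh.HH PS F 1) ∧ Subsingleton (Coh.HH PS F 2) ∧
      HT F 1 1 ∧ HT F 1 2 ∧
      Function.Injective (TensorProduct.lift
        (CategoryTheory.Linear.comp O(-1) O0 F : (O(-1) ⟶ O0) →ₗ[k] (O0 ⟶ F) →ₗ[k] (O(-1) ⟶ F))) := by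
  classical
  let f : (∐ fun _ : Fin α₁ => O(-2)) ⟶ (∐ fun _ : Fin α₂ => O(-1)) ⊞ (∐ fun _ : Fin α₃ => O0) :=
    e₁.inv ≫ S.f ≫ e₂.hom
  let g : (∐ fun _ : Fin α₂ => O(-1)) ⊞ (∐ fun _ : Fin α₃ => O0) ⟶ F := e₂.inv ≫ S.g ≫ e₃.hom
  have w : f ≫ g = 0 := by simp [f, g]
  have hT : (ShortComplex.mk f g w).ShortExact :=
    ShortComplex.shortExact_of_iso (ShortComplex.isoMk e₁ e₂ e₃ (by simp [f]) (by simp [g])) hS
  have hA : ∀ (d : ℤ) {i : ℕ}, (i ≠ 0 ∧ (-1 < d ∨ i ≠ 2)) ∨ (i = 0 ∧ d < 2) →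
      HT (∐ fun _ : Fin α₁ => O(-2)) d i :=
    fun d i h => HT.sigma _ fun _ => HT_twist' two_pos (-2) d (by omega)
  have key : ∀ (d : ℤ) (i : ℕ), i ≠ 0 → (-1 < d ∨ (i ≠ 1 ∧ -2 < d)) → HT F d i := fun d i h0 h2 =>
    HT.right hT (HT_source α₂ α₃ d (Or.inl ⟨h0, by omega⟩)) (hA d (i := i + 1) (Or.inl ⟨by omega, by omega⟩))
  refine ⟨HT.right hT (HT_source α₂ α₃ (-1) (Or.inr ⟨rfl, by norm_num⟩)) (hA (-1) (Or.inl ⟨one_ne_zero, by omega⟩)),
    key _ _ (by norm_num) (Or.inr ⟨by norm_num, by norm_num⟩),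
    (HT_zero_iff F 1).1 (key _ _ (by norm_num) (Or.inl (by norm_num))),
    (HT_zero_iff F 2).1 (key _ _ (by norm_num) (Or.inl (by norm_num))),
    key _ _ (by norm_num) (Or.inl (by norm_num)),
    key _ _ (by norm_num) (Or.inl (by norm_num)), ?_⟩
  haveI : Mono f := hT.mono_f
  haveI : Epi g := hT.epi_g
  have hgs : Function.Surjective (g.app ⊤) := SerreAff.surjective_top g
    (@ProjCoh.subsingleton_of_iso _ _ _
      ((hT.fIsKernel).conePointUniqueUpToIso (kernelIsKernel g)) 1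
      ((HT_zero_iff _ 1).1 (hA 0 (Or.inl ⟨one_ne_zero, by omega⟩))))
  haveI : Subsingleton (O0 ⟶ O(-1)) := subsingleton_structure_negOne (k := k)
  let sf : Fin α₃ → (O0 ⟶ F) := fun j => Sigma.ι (fun _ : Fin α₃ => O0) j ≫ biprod.inr ≫ g
  have hspan : ∀ s : O0 ⟶ F, ∃ c : Fin α₃ → k, s = ∑ j, c j • sf j := fun s => by
    obtain ⟨l, rfl⟩ := exists_lift g hgs s
    have hfst : l ≫ biprod.fst = 0 := hom_sigma_eq_zero _
    obtain ⟨ψ, hψ⟩ := sigma_decomp O0 (l ≫ biprod.snd)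
    choose c hc using fun j => end_structure (ψ j)
    refine ⟨c, ?_⟩
    have e : l = ∑ j, c j • (Sigma.ι (fun _ : Fin α₃ => O0) j ≫ biprod.inr) := by
      conv_lhs => rw [← Category.comp_id l, ← biprod.total, Preadditive.comp_add, reassoc_of% hfst, zero_comp,
        zero_add, ← Category.assoc, hψ, Preadditive.sum_comp]
      refine Finset.sum_congr rfl fun j _ => ?_
      rw [hc j]; simp
    rw [e, Preadditive.sum_comp]
    refine Finset.sum_congr rfl fun j _ => ?_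
    simp only [Linear.smul_comp, Category.assoc]
    rfl
  have hdec : ∀ z : (O(-1) ⟶ O0) ⊗[k] (O0 ⟶ F),
      ∃ ψ : Fin α₃ → (O(-1) ⟶ O0), z = ∑ j, ψ j ⊗ₜ[k] sf j := fun z => by
    induction z using TensorProduct.induction_on with
    | zero => exact ⟨0, by simp⟩
    | tmul p s =>
      obtain ⟨c, rfl⟩ := hspan s
      exact ⟨fun j => c j • p, by simp [TensorProduct.tmul_sum, TensorProduct.smul_tmul]⟩
    | add x y hx hy =>
      obtain ⟨px, rfl⟩ := hx
      obtain ⟨py, rfl⟩ := hy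
      exact ⟨px + py, by simp [TensorProduct.add_tmul, Finset.sum_add_distrib]⟩
  refine (injective_iff_map_eq_zero _).2 fun z hz => ?_
  obtain ⟨ψ, rfl⟩ := hdec z
  let v : O(-1) ⟶ (∐ fun _ : Fin α₂ => O(-1)) ⊞ (∐ fun _ : Fin α₃ => O0) :=
    ∑ j, ψ j ≫ Sigma.ι (fun _ : Fin α₃ => O0) j ≫ biprod.inr
  have hv : v ≫ g = 0 := by
    rw [← hz, map_sum, Preadditive.sum_comp]
    simp only [Category.assoc]
    rfl
  obtain ⟨l, hl⟩ : ∃ l, l ≫ f = v := ⟨_, (hT.fIsKernel).fac (KernelFork.ofι v hv) WalkingParallelPair.zero⟩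
  haveI : Subsingleton (O(-1) ⟶ O(-2)) :=
    subsingleton_hom_negOne (HT_twist' two_pos (-2) 1 (Or.inr ⟨rfl, by norm_num⟩))
  rw [hom_sigma_eq_zero l, zero_comp] at hl
  have hψ : ∀ j, ψ j = 0 := fun j => by
    have := congrArg (fun t => t ≫ biprod.snd ≫ Sigma.desc (fun i => if i = j then 𝟙 O0 else 0)) hl
    simp only [v, zero_comp, Preadditive.sum_comp, Category.assoc, biprod.inr_snd_assoc, Sigma.ι_desc] at this
    rw [Finset.sum_eq_single j (fun i _ hi => by rw [if_neg hi, comp_zero]) (by simp), if_pos rfl,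
      Category.comp_id] at this
    exact this.symm
  simp [hψ]

end Groth.Agent.GaetaLib
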